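import Mathlib

/-!
# Pulling apart a punctual ideal of the affine plane

For `𝔞` primary to the origin of `k[x, y]` with `y ∉ 𝔞`, write `𝔟 = (𝔞 : y)` and choose
`f ∈ 𝔞` monic in `x` with `f(x, 0) = x ^ r`, `(𝔞, y) = (x ^ r, y)`.
The family `(y - t) 𝔟 + (f)` is finite and flat over `k[t]`.
-/

set_option autoImplicit false
universe u
open scoped Polynomial

namespace Groth.Agent.PullApartLib

variable {k : Type u} [Field k]

lemma sub_aeval_mem (I : Ideal (MvPolynomial (Fin 2) k))
    (g : Fin 2 → MvPolynomial (Fin 2) k) (hg : ∀ l, MvPolynomial.X l - g l ∈ I)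
    (a : MvPolynomial (Fin 2) k) : a - MvPolynomial.aeval g a ∈ I := by
  have h : (Ideal.Quotient.mkₐ k I) = (Ideal.Quotient.mkₐ k I).comp (MvPolynomial.aeval g) := by
    refine MvPolynomial.algHom_ext fun l => ?_
    simp only [AlgHom.comp_apply, MvPolynomial.aeval_X, Ideal.Quotient.mkₐ_eq_mk]
    exact Ideal.Quotient.eq.2 (hg l)
  exact Ideal.Quotient.eq.1 (DFunLike.congr_fun h a)

lemma constantCoeff_eq_zero_of_mem {a : MvPolynomial (Fin 2) k}
    (ha : a ∈ Ideal.span {MvPolynomial.X (0 : Fin 2), MvPolynomial.X 1}) :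
    MvPolynomial.constantCoeff a = 0 := by
  have : Ideal.span {MvPolynomial.X (0 : Fin 2), MvPolynomial.X 1} ≤
      RingHom.ker (MvPolynomial.constantCoeff (R := k) (σ := Fin 2)) := by
    rw [Ideal.span_le]
    rintro z (rfl | rfl) <;> simp
  exact this ha

lemma X_mem_origin (l : Fin 2) :
    (MvPolynomial.X l : MvPolynomial (Fin 2) k) ∈
      Ideal.span {MvPolynomial.X (0 : Fin 2), MvPolynomial.X 1} := by
  fin_cases l <;> exact Ideal.subset_span (by simp)

lemma algHom_aeval_eq {B : Type u} [CommRing B] [Algebra k B]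
    (g : MvPolynomial (Fin 2) k →ₐ[k] B) (y : MvPolynomial (Fin 2) k) (c : k)
    (hy : g y = algebraMap k B c) (p : k[X]) :
    g (Polynomial.aeval y p) = algebraMap k B (p.eval c) := by
  rw [← Polynomial.aeval_algHom_apply, hy, Polynomial.aeval_algebraMap_apply_eq_algebraMap_eval]

lemma sub_C_constantCoeff_mem (a : MvPolynomial (Fin 2) k) :
    a - MvPolynomial.C (MvPolynomial.constantCoeff a) ∈
      Ideal.span {MvPolynomial.X (0 : Fin 2), MvPolynomial.X 1} := by
  have h := sub_aeval_mem (Ideal.span {MvPolynomial.X (0 : Fin 2), MvPolynomial.X 1})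
    (fun _ => 0) (fun l => by simpa using X_mem_origin l) a
  rwa [show (fun _ => 0 : Fin 2 → MvPolynomial (Fin 2) k) = 0 from rfl, MvPolynomial.aeval_zero,
    MvPolynomial.algebraMap_eq] at h

/-- If `y` is not in the punctual ideal `𝔞`, the colon ideal `(𝔞 : y)` is supported at the origin. -/
lemma colon_le_origin (𝔞 : Ideal (MvPolynomial (Fin 2) k))
    (hsupp : 𝔞.radical = Ideal.span {MvPolynomial.X 0, MvPolynomial.X 1})
    {y h : MvPolynomial (Fin 2) k} (hy : y ∉ 𝔞) (hh : y * h ∈ 𝔞) :
    h ∈ Ideal.span {MvPolynomial.X (0 : Fin 2), MvPolynomial.X 1} := by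
  by_contra hm
  set c := MvPolynomial.constantCoeff h
  have hz := sub_C_constantCoeff_mem h
  have hc : c ≠ 0 := by
    intro h0
    apply hm
    simpa [show MvPolynomial.constantCoeff h = 0 from h0] using hz
  have hnil : IsNilpotent (Ideal.Quotient.mk 𝔞 (h - MvPolynomial.C c)) := by
    rw [← hsupp] at hz
    obtain ⟨n, hn⟩ := hz
    exact ⟨n, by rw [← map_pow]; exact Ideal.Quotient.eq_zero_iff_mem.2 hn⟩
  have hu : IsUnit (Ideal.Quotient.mk 𝔞 (MvPolynomial.C c)) :=
    (((isUnit_iff_ne_zero.2 hc).map (MvPolynomial.C (σ := Fin 2) (R := k)))).map (Ideal.Quotient.mk 𝔞)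
  have hu' : IsUnit (Ideal.Quotient.mk 𝔞 h) := by
    have := hnil.isUnit_add_right_of_commute hu (Commute.all _ _)
    rwa [← map_add, sub_add_cancel] at this
  have h0 : Ideal.Quotient.mk 𝔞 y * Ideal.Quotient.mk 𝔞 h = 0 := by
    rw [← map_mul]; exact Ideal.Quotient.eq_zero_iff_mem.2 hh
  exact hy (Ideal.Quotient.eq_zero_iff_mem.1 (hu'.mul_left_eq_zero.1 h0))

/-- `f ∈ 𝔞`, monic in `x`, with `f(x, 0) = x ^ r` generating the ideal of `𝔞` on the line `y = 0`. -/
lemma exists_monic (𝔞 : Ideal (MvPolynomial (Fin 2) k))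
    (hsupp : 𝔞.radical = Ideal.span {MvPolynomial.X 0, MvPolynomial.X 1})
    (i j : Fin 2) (hij : i ≠ j) :
    ∃ (r : ℕ) (F : Polynomial k[X]), 1 ≤ r ∧ F.Monic ∧ F.natDegree = r ∧
      Polynomial.eval₂RingHom (Polynomial.aeval (R := k) (MvPolynomial.X j : MvPolynomial (Fin 2) k)).toRingHom
        (MvPolynomial.X i) F ∈ 𝔞 ∧
      F.map (Polynomial.evalRingHom 0) = Polynomial.X ^ r ∧
      ∀ a ∈ 𝔞, (Polynomial.X : k[X]) ^ r ∣
        MvPolynomial.aeval (fun l => if l = i then Polynomial.X else 0) a := by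
  classical
  set φ : MvPolynomial (Fin 2) k →ₐ[k] k[X] :=
    MvPolynomial.aeval (fun l => if l = i then Polynomial.X else 0) with hφ
  set L : k[X] →ₐ[k] MvPolynomial (Fin 2) k := Polynomial.aeval (MvPolynomial.X i) with hL
  set y : MvPolynomial (Fin 2) k := MvPolynomial.X j with hy
  set Θ : Polynomial k[X] →+* MvPolynomial (Fin 2) k :=
    Polynomial.eval₂RingHom (Polynomial.aeval (R := k) y).toRingHom (MvPolynomial.X i) with hΘ
  have hφi : φ (MvPolynomial.X i) = Polynomial.X := by simp [hφ]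
  have hφj : φ y = 0 := by simp [hφ, hy, Ne.symm hij]
  have hφL : ∀ q, φ (L q) = q := by
    intro q
    have : φ.comp L = AlgHom.id k _ := Polynomial.algHom_ext (by simp [hL, hφi])
    exact DFunLike.congr_fun this q
  have hsub : ∀ a, a - L (φ a) ∈ Ideal.span {y} := by
    intro a
    have hcomp : L.comp φ = MvPolynomial.aeval (fun l => if l = i then MvPolynomial.X i else 0) := by
      refine MvPolynomial.algHom_ext fun l => ?_
      by_cases hl : l = i
      · simp [hl, hL, hφ]
      · simp [hl, hφ]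
    have h := sub_aeval_mem (Ideal.span {y}) (fun l => if l = i then MvPolynomial.X i else 0)
      (fun l => by
        by_cases hl : l = i
        · simp [hl]
        · have : l = j := by omega
          simp [hl, this, hy, Ne.symm hij, Ideal.mem_span_singleton_self]) a
    rw [← hcomp] at h
    exact h
  have hφsurj : Function.Surjective φ := fun q => ⟨L q, hφL q⟩
  have h𝔞m : 𝔞 ≤ Ideal.span {MvPolynomial.X (0 : Fin 2), MvPolynomial.X 1} :=
    hsupp ▸ Ideal.le_radical
  obtain ⟨Nx, hNx⟩ : (MvPolynomial.X i : MvPolynomial (Fin 2) k) ∈ 𝔞.radical := by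
    rw [hsupp]; exact X_mem_origin i
  obtain ⟨Ny, hNy⟩ : y ∈ 𝔞.radical := by rw [hsupp]; exact X_mem_origin j
  -- the ideal on the line
  set J : Ideal k[X] := 𝔞.map φ with hJ
  obtain ⟨g, hg⟩ := (IsPrincipalIdealRing.principal J).principal
  have hgdvd : g ∣ Polynomial.X ^ Nx := by
    have : (Polynomial.X : k[X]) ^ Nx ∈ J := by
      rw [← hφi, ← map_pow]; exact Ideal.mem_map_of_mem _ hNx
    rw [hg] at this
    exact Ideal.mem_span_singleton.1 this
  obtain ⟨r, -, hr⟩ := (dvd_prime_pow Polynomial.prime_X _).1 hgdvd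
  have hJr : J = Ideal.span {(Polynomial.X : k[X]) ^ r} := by
    rw [hg]; exact Ideal.span_singleton_eq_span_singleton.2 hr
  obtain ⟨a₀, ha₀, ha₀'⟩ := (Ideal.mem_map_iff_of_surjective (f := φ) hφsurj).1
    (show (Polynomial.X : k[X]) ^ r ∈ J by rw [hJr]; exact Ideal.mem_span_singleton_self _)
  have hr1 : 1 ≤ r := by
    by_contra hc
    have hr0 : r = 0 := by omega
    subst hr0
    have h1 := hsub a₀
    rw [ha₀', pow_zero, map_one] at h1
    have hle : Ideal.span {y} ≤ Ideal.span {MvPolynomial.X (0 : Fin 2), MvPolynomial.X 1} := by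
      rw [Ideal.span_singleton_le_iff_mem]; exact X_mem_origin j
    have := constantCoeff_eq_zero_of_mem (hle h1)
    rw [map_sub, map_one, constantCoeff_eq_zero_of_mem (h𝔞m ha₀)] at this
    simp at this
  have hdvd : ∀ a ∈ 𝔞, (Polynomial.X : k[X]) ^ r ∣ φ a := by
    intro a ha
    have : φ a ∈ J := Ideal.mem_map_of_mem _ ha
    rw [hJr] at this
    exact Ideal.mem_span_singleton.1 this
  have hxr : (MvPolynomial.X i : MvPolynomial (Fin 2) k) ^ r ∈ 𝔞 ⊔ Ideal.span {y} := by
    have h1 := hsub a₀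
    rw [ha₀', map_pow] at h1
    have h2 : L Polynomial.X = MvPolynomial.X i := by simp [hL]
    rw [h2] at h1
    have := Ideal.sub_mem _ (Submodule.mem_sup_left (T := Ideal.span {y}) ha₀)
      (Submodule.mem_sup_right (S := 𝔞) h1)
    simpa using this
  -- Θ and φ, L
  have hφΘ : ∀ P : Polynomial k[X], φ (Θ P) = P.map (Polynomial.evalRingHom 0) := by
    intro P
    have h : (φ : MvPolynomial (Fin 2) k →+* k[X]).comp Θ =
        Polynomial.mapRingHom (Polynomial.evalRingHom 0) := by
      refine Polynomial.ringHom_ext (fun p => ?_) (by simp [hΘ, hφi])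
      have := algHom_aeval_eq φ y 0 (by rw [hφj, map_zero]) p
      simp only [hΘ, RingHom.comp_apply, Polynomial.coe_eval₂RingHom, Polynomial.eval₂_C,
        Polynomial.coe_mapRingHom, Polynomial.map_C, Polynomial.coe_evalRingHom]
      exact this
    exact DFunLike.congr_fun h P
  have hΘC : ∀ q : k[X], Θ (q.map Polynomial.C) = L q := by
    intro q
    have h : Θ.comp (Polynomial.mapRingHom Polynomial.C) = (L : k[X] →+* _) := by
      refine Polynomial.ringHom_ext (fun a => ?_) (by simp [hΘ, hL])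
      simp [hΘ, hL, MvPolynomial.algebraMap_eq]
    exact DFunLike.congr_fun h q
  -- reduction modulo `𝔞` and powers of `y`
  have hred1 : ∀ a, ∃ P : Polynomial k[X], P.degree < r ∧ a - Θ P ∈ 𝔞 ⊔ Ideal.span {y} := by
    intro a
    have hm : ((Polynomial.X : k[X]) ^ r).Monic := Polynomial.monic_X_pow r
    refine ⟨(φ a %ₘ Polynomial.X ^ r).map Polynomial.C, ?_, ?_⟩
    · refine lt_of_le_of_lt Polynomial.degree_map_le ?_
      simpa using Polynomial.degree_modByMonic_lt (φ a) hm
    · rw [hΘC]
      have h1 := Submodule.mem_sup_right (S := 𝔞) (hsub a)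
      have h2 : L (Polynomial.X ^ r * (φ a /ₘ Polynomial.X ^ r)) ∈ 𝔞 ⊔ Ideal.span {y} := by
        rw [map_mul, map_pow, show L Polynomial.X = MvPolynomial.X i by simp [hL]]
        exact Ideal.mul_mem_right _ _ hxr
      have h3 := Ideal.add_mem _ h1 h2
      have h4 : L (φ a) = L (φ a %ₘ Polynomial.X ^ r) +
          L (Polynomial.X ^ r * (φ a /ₘ Polynomial.X ^ r)) := by
        rw [← map_add, Polynomial.modByMonic_add_div]
      rwa [h4, sub_add_eq_sub_sub, sub_add_cancel] at h3
  have hred : ∀ (m : ℕ) (a), ∃ P : Polynomial k[X], P.degree < r ∧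
      a - Θ P ∈ 𝔞 ⊔ Ideal.span {y ^ m} := by
    intro m
    induction m with
    | zero =>
      intro a
      refine ⟨0, by simp, Ideal.mem_sup_right ?_⟩
      simp
    | succ m ih =>
      intro a
      obtain ⟨P, hP, hPa⟩ := ih a
      obtain ⟨e, he, w, hw, hew⟩ := Submodule.mem_sup.1 hPa
      obtain ⟨u, rfl⟩ := Ideal.mem_span_singleton.1 hw
      obtain ⟨P', hP', hP'u⟩ := hred1 u
      obtain ⟨e', he', w', hw', hew'⟩ := Submodule.mem_sup.1 hP'u
      obtain ⟨v, rfl⟩ := Ideal.mem_span_singleton.1 hw'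
      refine ⟨P + Polynomial.C (Polynomial.X ^ m) * P', ?_, ?_⟩
      · refine lt_of_le_of_lt (Polynomial.degree_add_le _ _) (max_lt hP ?_)
        exact lt_of_le_of_lt (Polynomial.degree_mul_le _ _)
          (lt_of_le_of_lt (add_le_add Polynomial.degree_C_le le_rfl) (by simpa using hP'))
      · have hC : Θ (Polynomial.C (Polynomial.X ^ m)) = y ^ m := by
          rw [hΘ, Polynomial.coe_eval₂RingHom, Polynomial.eval₂_C]; simp
        refine Submodule.mem_sup.2 ⟨e + y ^ m * e', add_mem he (Ideal.mul_mem_left _ _ he'),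
          y ^ (m + 1) * v, Ideal.mem_span_singleton.2 ⟨v, rfl⟩, ?_⟩
        rw [map_add, map_mul, hC]
        linear_combination hew + y ^ m * hew'
  obtain ⟨P, hP, hPa⟩ := hred Ny ((MvPolynomial.X i : MvPolynomial (Fin 2) k) ^ r)
  have hPa' : (MvPolynomial.X i : MvPolynomial (Fin 2) k) ^ r - Θ P ∈ 𝔞 :=
    (sup_le le_rfl ((Ideal.span_singleton_le_iff_mem _).2 hNy)) hPa
  have hF : Θ (Polynomial.X ^ r - P) ∈ 𝔞 := by
    have : Θ Polynomial.X = MvPolynomial.X i := by simp [hΘ]
    rwa [map_sub, map_pow, this]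
  have hP0 : P.map (Polynomial.evalRingHom 0) = 0 := by
    have h1 := hdvd _ hF
    rw [hφΘ, Polynomial.map_sub, Polynomial.map_pow, Polynomial.map_X] at h1
    have h2 : (Polynomial.X : k[X]) ^ r ∣ P.map (Polynomial.evalRingHom 0) := by
      simpa using dvd_sub (dvd_refl ((Polynomial.X : k[X]) ^ r)) h1
    refine Polynomial.eq_zero_of_dvd_of_degree_lt h2 ?_
    rw [Polynomial.degree_X_pow]
    exact lt_of_le_of_lt Polynomial.degree_map_le hP
  have hFm : (Polynomial.X ^ r - P).Monic := Polynomial.monic_X_pow_sub hP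
  refine ⟨r, Polynomial.X ^ r - P, hr1, hFm, ?_, hF, ?_, hdvd⟩
  · refine Polynomial.natDegree_eq_of_degree_eq_some ?_
    rw [Polynomial.degree_sub_eq_left_of_degree_lt (by simpa using hP), Polynomial.degree_X_pow]
  · rw [Polynomial.map_sub, hP0, Polynomial.map_pow, Polynomial.map_X, sub_zero]

/-- The family `(y - t) (𝔞 : y) + (f)` pulls the punctual ideal `𝔞` apart. -/
theorem core [IsAlgClosed k] (𝔞 : Ideal (MvPolynomial (Fin 2) k))
    (hsupp : 𝔞.radical = Ideal.span {MvPolynomial.X 0, MvPolynomial.X 1})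
    (i j : Fin 2) (hij : i ≠ j) (hyn : (MvPolynomial.X j : MvPolynomial (Fin 2) k) ∉ 𝔞) :
    ∃ 𝔞' : Ideal (MvPolynomial (Fin 2) k)[X],
      RingHom.Flat (R := k[X]) (S := (MvPolynomial (Fin 2) k)[X] ⧸ 𝔞')
        ((Ideal.Quotient.mk 𝔞').comp (Polynomial.mapRingHom (algebraMap k (MvPolynomial (Fin 2) k)))) ∧
      RingHom.Finite (A := k[X]) (B := (MvPolynomial (Fin 2) k)[X] ⧸ 𝔞')
        ((Ideal.Quotient.mk 𝔞').comp (Polynomial.mapRingHom (algebraMap k (MvPolynomial (Fin 2) k)))) ∧
      Ideal.map (Polynomial.evalRingHom (0 : MvPolynomial (Fin 2) k)) 𝔞' = 𝔞 ∧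
      ∀ c : k, c ≠ 0 →
        Ideal.map (Polynomial.evalRingHom (MvPolynomial.C c)) 𝔞' ≤ Ideal.span {MvPolynomial.X 0, MvPolynomial.X 1} ∧
        ∃ p : Fin 2 → k, p ≠ 0 ∧
          Ideal.map (Polynomial.evalRingHom (MvPolynomial.C c)) 𝔞' ≤
            Ideal.span (Set.range (fun i : Fin 2 => MvPolynomial.X i - MvPolynomial.C (p i))) := by
  classical
  obtain ⟨r, F, hr1, hFm, hFd, hf𝔞, hF0, hdvd⟩ := exists_monic 𝔞 hsupp i j hij
  set y : (MvPolynomial (Fin 2) k) := MvPolynomial.X j with hy
  set Θ : Polynomial k[X] →+* (MvPolynomial (Fin 2) k) :=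
    Polynomial.eval₂RingHom (Polynomial.aeval (R := k) y).toRingHom (MvPolynomial.X i) with hΘ
  set f : (MvPolynomial (Fin 2) k) := Θ F with hf
  set 𝔟 : Ideal (MvPolynomial (Fin 2) k) := Submodule.comap (LinearMap.mulLeft (MvPolynomial (Fin 2) k) y) 𝔞 with h𝔟
  have h𝔟mem : ∀ h, h ∈ 𝔟 ↔ y * h ∈ 𝔞 := fun h => Iff.rfl
  have h𝔞𝔟 : 𝔞 ≤ 𝔟 := fun a ha => (h𝔟mem a).2 (Ideal.mul_mem_left _ _ ha)
  have h𝔟m : 𝔟 ≤ Ideal.span {MvPolynomial.X (0 : Fin 2), MvPolynomial.X 1} :=
    fun h hh => colon_le_origin 𝔞 hsupp hyn hh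
  set D : (MvPolynomial (Fin 2) k)[X] := Polynomial.C y - Polynomial.X with hD
  set 𝔞' : Ideal (MvPolynomial (Fin 2) k)[X] := Ideal.map Polynomial.C 𝔟 * Ideal.span {D} ⊔
    Ideal.span {Polynomial.C f} with h𝔞'
  refine ⟨𝔞', ?_⟩
  -- the fibres
  have hfib : ∀ c : (MvPolynomial (Fin 2) k), Ideal.map (Polynomial.evalRingHom c) 𝔞' =
      𝔟 * Ideal.span {y - c} ⊔ Ideal.span {f} := by
    intro c
    have hid : (Polynomial.evalRingHom c).comp Polynomial.C = RingHom.id (MvPolynomial (Fin 2) k) :=
      RingHom.ext fun a => by simp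
    rw [h𝔞', Ideal.map_sup, Ideal.map_mul, Ideal.map_map, hid, Ideal.map_id, Ideal.map_span,
      Ideal.map_span, Set.image_singleton, Set.image_singleton]
    simp [hD]
  -- membership helpers
  have hmemD : ∀ u ∈ Ideal.map Polynomial.C 𝔟, u * D ∈ 𝔞' := fun u hu =>
    Ideal.mem_sup_left (Ideal.mul_mem_mul hu (Ideal.mem_span_singleton_self D))
  -- the projection to the locus `y = t`
  set ι : k[X] →+* (MvPolynomial (Fin 2) k)[X] := Polynomial.mapRingHom (algebraMap k (MvPolynomial (Fin 2) k)) with hι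
  set ρ : (MvPolynomial (Fin 2) k) →ₐ[k] Polynomial k[X] :=
    MvPolynomial.aeval (fun l => if l = i then Polynomial.X else Polynomial.C Polynomial.X) with hρ
  set ψ : (MvPolynomial (Fin 2) k)[X] →+* Polynomial k[X] :=
    Polynomial.eval₂RingHom ρ.toRingHom (Polynomial.C Polynomial.X) with hψ
  set χ : Polynomial k[X] →+* (MvPolynomial (Fin 2) k)[X] :=
    Polynomial.eval₂RingHom ι (Polynomial.C (MvPolynomial.X i)) with hχ
  have hρi : ρ (MvPolynomial.X i) = Polynomial.X := by simp [hρ]
  have hρj : ρ y = Polynomial.C Polynomial.X := by simp [hρ, hy, Ne.symm hij]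
  have hρΘ : ∀ P, ρ (Θ P) = P := by
    intro P
    have h : (ρ : (MvPolynomial (Fin 2) k) →+* Polynomial k[X]).comp Θ = RingHom.id _ := by
      refine Polynomial.ringHom_ext (fun p => ?_) (by simp [hΘ, hρi])
      have h1 : ρ (Polynomial.aeval y p) = Polynomial.aeval (Polynomial.C (Polynomial.X : k[X])) p := by
        rw [← Polynomial.aeval_algHom_apply, hρj]
      have h2 : Polynomial.aeval (Polynomial.C (Polynomial.X : k[X])) p = Polynomial.C p := by
        rw [← Polynomial.algebraMap_eq (R := k[X]), Polynomial.aeval_algebraMap_apply,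
          Polynomial.aeval_X_left_apply]
      simpa [hΘ] using h1.trans h2
    exact DFunLike.congr_fun h P
  have hψC : ∀ a, ψ (Polynomial.C a) = ρ a := fun a => by simp [hψ]
  have hψD : ψ D = 0 := by
    rw [hD, map_sub, hψC, hρj]; simp [hψ]
  have hψι : ∀ s, ψ (ι s) = Polynomial.C s := by
    intro s
    have h : ψ.comp ι = Polynomial.C := by
      refine Polynomial.ringHom_ext (fun a => ?_) (by simp [hψ, hι])
      simp [hψ, hι, hρ]
    exact DFunLike.congr_fun h s
  have hψχ : ∀ q, ψ (χ q) = q := by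
    intro q
    have h : ψ.comp χ = RingHom.id _ := by
      refine Polynomial.ringHom_ext (fun s => ?_) (by simp [hχ, hψ, hρi])
      simp [hχ, hψι]
    exact DFunLike.congr_fun h q
  have hψsub : ∀ z, z - χ (ψ z) ∈ Ideal.span {D} := by
    intro z
    have h : (Ideal.Quotient.mk (Ideal.span {D})) =
        (Ideal.Quotient.mk (Ideal.span {D})).comp (χ.comp ψ) := by
      refine Polynomial.ringHom_ext (fun a => ?_) ?_
      · have h' : (Ideal.Quotient.mk (Ideal.span {D})).comp Polynomial.C =
            ((Ideal.Quotient.mk (Ideal.span {D})).comp (χ.comp ψ)).comp Polynomial.C := by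
          refine MvPolynomial.ringHom_ext (fun s => ?_) (fun l => ?_)
          · simp [hψ, hρ, hχ, hι]
          · by_cases hl : l = i
            · subst hl
              simp [hψ, hρ, hχ]
            · have : l = j := by omega
              subst this
              simp only [RingHom.comp_apply, hψC]
              rw [← hy, hρj]
              refine Ideal.Quotient.eq.2 ?_
              simp [hχ, hι, ← hD, Ideal.mem_span_singleton_self]
        exact DFunLike.congr_fun h' a
      · simp [hψ, hχ, hι]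
    exact Ideal.Quotient.eq.1 (DFunLike.congr_fun h z)
  have hker : ∀ z, ψ z = 0 → D ∣ z := by
    intro z hz
    have := hψsub z
    rw [hz, map_zero, sub_zero] at this
    exact Ideal.mem_span_singleton.1 this
  have hψf : ψ (Polynomial.C f) = F := by rw [hψC, hf, hρΘ]
  have hψ𝔞' : ∀ z ∈ 𝔞', F ∣ ψ z := by
    intro z hz
    obtain ⟨a, ha, b, hb, rfl⟩ := Submodule.mem_sup.1 hz
    obtain ⟨u, -, rfl⟩ := Ideal.mem_mul_span_singleton.1 ha
    obtain ⟨v, rfl⟩ := Ideal.mem_span_singleton.1 hb
    rw [map_add, map_mul, hψD, mul_zero, zero_add, map_mul, hψf]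
    exact Dvd.intro _ rfl
  have hD0 : D ≠ 0 := by
    intro h0
    have := congrArg (fun P => Polynomial.coeff P 1) h0
    simp [hD] at this
  have hcancel : ∀ g, D * g ∈ 𝔞' → g ∈ Ideal.map Polynomial.C 𝔟 := by
    intro g hg
    obtain ⟨a, ha, b, hb, hab⟩ := Submodule.mem_sup.1 hg
    obtain ⟨u, hu, rfl⟩ := Ideal.mem_mul_span_singleton.1 ha
    obtain ⟨v, rfl⟩ := Ideal.mem_span_singleton.1 hb
    have h1 := congrArg ψ hab
    rw [map_add, map_mul, map_mul, map_mul, hψD, hψf, mul_zero, zero_add, zero_mul] at h1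
    have h2 : ψ v = 0 := by
      rcases mul_eq_zero.1 h1 with h3 | h3
      · exact absurd h3 hFm.ne_zero
      · exact h3
    obtain ⟨v', rfl⟩ := hker v h2
    have h3 : g = u + Polynomial.C f * v' := by
      refine mul_left_cancel₀ hD0 ?_
      linear_combination -hab
    rw [h3]
    exact add_mem hu (Ideal.mul_mem_right _ _ (Ideal.mem_map_of_mem _ (h𝔞𝔟 hf𝔞)))
  have htf : ∀ s : k[X], s ≠ 0 → ∀ z, ι s * z ∈ 𝔞' → z ∈ 𝔞' := by
    intro s hs z hz
    set t : k[X] := s * Polynomial.C s.leadingCoeff⁻¹ with ht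
    have htm : t.Monic := Polynomial.monic_mul_leadingCoeff_inv hs
    have hz' : ι t * z ∈ 𝔞' := by
      rw [ht, map_mul, mul_right_comm]
      exact Ideal.mul_mem_right _ _ hz
    have h1 := hψ𝔞' _ hz'
    rw [map_mul, hψι] at h1
    have h2 : F ∣ ψ z := by
      rw [← Polynomial.modByMonic_eq_zero_iff_dvd hFm] at h1 ⊢
      rw [← Polynomial.smul_eq_C_mul, Polynomial.smul_modByMonic] at h1
      exact (smul_eq_zero.1 h1).resolve_left htm.ne_zero
    obtain ⟨q, hq⟩ := h2
    obtain ⟨h, hh⟩ := hker (z - Polynomial.C f * χ q) (by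
      rw [map_sub, map_mul, hψf, hψχ, hq, sub_self])
    have hfq : Polynomial.C f * χ q ∈ 𝔞' :=
      Ideal.mem_sup_right (Ideal.mul_mem_right _ _ (Ideal.mem_span_singleton_self _))
    have h3 : D * (ι t * h) ∈ 𝔞' := by
      have : D * (ι t * h) = ι t * z - ι t * (Polynomial.C f * χ q) := by
        rw [← mul_sub, hh]; ring
      rw [this]
      exact sub_mem hz' (Ideal.mul_mem_left _ _ hfq)
    have h4 := hcancel _ h3
    have h5 : h ∈ Ideal.map Polynomial.C 𝔟 := by
      rw [← Ideal.mk_ker (I := 𝔟), ← Polynomial.ker_mapRingHom, RingHom.mem_ker] at h4 ⊢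
      rw [map_mul] at h4
      have hm : (Polynomial.mapRingHom (Ideal.Quotient.mk 𝔟) (ι t)).Monic := by
        simp only [hι, Polynomial.coe_mapRingHom]
        exact (htm.map _).map _
      exact hm.mul_right_eq_zero_iff.1 h4
    have : z = h * D + Polynomial.C f * χ q := by linear_combination hh
    rw [this]
    exact add_mem (hmemD h h5) hfq
  -- flatness
  have hflat : RingHom.Flat (R := k[X]) (S := (MvPolynomial (Fin 2) k)[X] ⧸ 𝔞')
      ((Ideal.Quotient.mk 𝔞').comp ι) := by
    letI := RingHom.toAlgebra (R := k[X]) (S := (MvPolynomial (Fin 2) k)[X] ⧸ 𝔞')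
      ((Ideal.Quotient.mk 𝔞').comp ι)
    show Module.Flat k[X] ((MvPolynomial (Fin 2) k)[X] ⧸ 𝔞')
    rw [IsDedekindDomain.flat_iff_torsion_eq_bot, eq_bot_iff]
    intro b hb
    obtain ⟨⟨s, hs⟩, hsb⟩ := (Submodule.mem_torsion_iff b).1 hb
    obtain ⟨z, rfl⟩ := Ideal.Quotient.mk_surjective b
    rw [Submonoid.mk_smul, Algebra.smul_def, RingHom.algebraMap_toAlgebra, RingHom.comp_apply,
      ← map_mul, Ideal.Quotient.eq_zero_iff_mem] at hsb
    rw [Submodule.mem_bot, Ideal.Quotient.eq_zero_iff_mem]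
    exact htf s (nonZeroDivisors.ne_zero hs) z hsb
  -- finiteness
  have hfin : RingHom.Finite (A := k[X]) (B := (MvPolynomial (Fin 2) k)[X] ⧸ 𝔞')
      ((Ideal.Quotient.mk 𝔞').comp ι) := by
    letI := RingHom.toAlgebra (R := k[X]) (S := (MvPolynomial (Fin 2) k)[X] ⧸ 𝔞')
      ((Ideal.Quotient.mk 𝔞').comp ι)
    show Module.Finite k[X] ((MvPolynomial (Fin 2) k)[X] ⧸ 𝔞')
    set π := Ideal.Quotient.mk 𝔞' with hπ
    obtain ⟨Nx, hNx⟩ : (MvPolynomial.X i : (MvPolynomial (Fin 2) k)) ∈ 𝔞.radical := by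
      rw [hsupp]; exact X_mem_origin i
    obtain ⟨Ny, hNy⟩ : y ∈ 𝔞.radical := by rw [hsupp]; exact X_mem_origin j
    have hval : ∀ (P : Polynomial k[X]) (w : (MvPolynomial (Fin 2) k)[X]), Polynomial.aeval (π w) P =
        π (Polynomial.eval₂ ι w P) := by
      intro P w
      rw [Polynomial.hom_eval₂, Polynomial.aeval_def]; rfl
    have hinty : IsIntegral k[X] (π (Polynomial.C y)) := by
      refine ⟨(Polynomial.X - Polynomial.C Polynomial.X) * Polynomial.X ^ Ny,
        (Polynomial.monic_X_sub_C _).mul (Polynomial.monic_X_pow _), ?_⟩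
      show Polynomial.aeval (π (Polynomial.C y)) _ = 0
      rw [hval, hπ, Ideal.Quotient.eq_zero_iff_mem]
      have : Polynomial.eval₂ ι (Polynomial.C y) ((Polynomial.X - Polynomial.C Polynomial.X) *
          Polynomial.X ^ Ny) = Polynomial.C (y ^ Ny) * D := by
        simp [hι, hD, mul_comm]
      rw [this]
      exact hmemD _ (Ideal.mem_map_of_mem _ (h𝔞𝔟 hNy))
    have hintx : IsIntegral k[X] (π (Polynomial.C (MvPolynomial.X i))) := by
      refine ⟨Polynomial.X ^ Nx * F, (Polynomial.monic_X_pow _).mul hFm, ?_⟩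
      show Polynomial.aeval (π (Polynomial.C (MvPolynomial.X i))) _ = 0
      rw [hval, hπ, Ideal.Quotient.eq_zero_iff_mem]
      have h1 : Polynomial.eval₂ ι (Polynomial.C (MvPolynomial.X i)) (Polynomial.X ^ Nx * F) =
          Polynomial.C ((MvPolynomial.X i : (MvPolynomial (Fin 2) k)) ^ Nx) * χ F := by
        rw [hχ, Polynomial.eval₂_mul, Polynomial.eval₂_X_pow, map_pow]; rfl
      rw [h1]
      obtain ⟨h, hh⟩ := Ideal.mem_span_singleton.1 (hψsub (Polynomial.C f))
      rw [hψf] at hh
      have h2 : Polynomial.C ((MvPolynomial.X i : (MvPolynomial (Fin 2) k)) ^ Nx) * χ F =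
          Polynomial.C f * Polynomial.C ((MvPolynomial.X i : (MvPolynomial (Fin 2) k)) ^ Nx) -
            (Polynomial.C ((MvPolynomial.X i : (MvPolynomial (Fin 2) k)) ^ Nx) * h) * D := by
        linear_combination -(Polynomial.C ((MvPolynomial.X i : (MvPolynomial (Fin 2) k)) ^ Nx)) * hh
      rw [h2]
      refine sub_mem (Ideal.mem_sup_right (Ideal.mul_mem_right _ _ (Ideal.mem_span_singleton_self _))) ?_
      exact hmemD _ (Ideal.mul_mem_right _ _ (Ideal.mem_map_of_mem _ (h𝔞𝔟 hNx)))
    set S := Algebra.adjoin k[X] (Set.range fun l => π (Polynomial.C (MvPolynomial.X l))) with hS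
    have hmem : ∀ s : k[X], π (ι s) ∈ S := fun s => S.algebraMap_mem s
    have htop : S = ⊤ := by
      refine eq_top_iff.2 fun b hb => ?_
      clear hb
      obtain ⟨z, rfl⟩ := Ideal.Quotient.mk_surjective b
      induction z using Polynomial.induction_on' with
      | add p q hp hq => rw [map_add]; exact add_mem hp hq
      | monomial n a =>
        rw [← Polynomial.C_mul_X_pow_eq_monomial, map_mul, map_pow]
        refine mul_mem ?_ (pow_mem ?_ _)
        · induction a using MvPolynomial.induction_on with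
          | C c =>
            have := hmem (Polynomial.C c)
            simpa [hι, MvPolynomial.algebraMap_eq] using this
          | add p q hp hq => rw [map_add, map_add]; exact add_mem hp hq
          | mul_X p l hp =>
            rw [map_mul, map_mul]
            exact mul_mem hp (Algebra.subset_adjoin ⟨l, rfl⟩)
        · have := hmem Polynomial.X
          simpa [hι] using this
    have hfg := fg_adjoin_of_finite (R := k[X])
      (Set.finite_range fun l => π (Polynomial.C (MvPolynomial.X l))) (by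
        rintro _ ⟨l, rfl⟩
        by_cases hl : l = i
        · subst hl; exact hintx
        · have : l = j := by omega
          subst this; exact hinty)
    rw [← hS, htop, Algebra.top_toSubmodule] at hfg
    exact ⟨hfg⟩
  refine ⟨hflat, hfin, ?_, fun c hc => ⟨?_, ?_⟩⟩
  · rw [hfib, sub_zero]
    refine le_antisymm (sup_le ?_ ((Ideal.span_singleton_le_iff_mem _).2 hf𝔞)) ?_
    · intro a ha
      obtain ⟨b, hb, rfl⟩ := Ideal.mem_mul_span_singleton.1 ha
      rw [mul_comm]; exact (h𝔟mem b).1 hb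
    · intro a ha
      set φ : (MvPolynomial (Fin 2) k) →ₐ[k] k[X] := MvPolynomial.aeval (fun l => if l = i then Polynomial.X else 0)
      obtain ⟨q, hq⟩ := hdvd a ha
      have hcomp : φ f = (Polynomial.X : k[X]) ^ r := by
        rw [← hF0, hf]
        have h : (φ : (MvPolynomial (Fin 2) k) →+* k[X]).comp Θ = Polynomial.mapRingHom (Polynomial.evalRingHom 0) := by
          refine Polynomial.ringHom_ext (fun p => ?_) (by simp [hΘ, φ])
          have h1 := algHom_aeval_eq φ y 0 (by simp [φ, hy, Ne.symm hij]) p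
          simp only [hΘ, RingHom.comp_apply, Polynomial.coe_eval₂RingHom, Polynomial.eval₂_C,
            Polynomial.coe_mapRingHom, Polynomial.map_C, Polynomial.coe_evalRingHom]
          exact h1
        exact DFunLike.congr_fun h F
      set w : (MvPolynomial (Fin 2) k) := a - f * Polynomial.aeval (MvPolynomial.X i) q with hw
      have hw0 : φ w = 0 := by
        have : φ (Polynomial.aeval (MvPolynomial.X i) q) = q := by
          rw [← Polynomial.aeval_algHom_apply, show φ (MvPolynomial.X i) = Polynomial.X by simp [φ],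
            Polynomial.aeval_X_left_apply]
        rw [hw, map_sub, map_mul, hcomp, this, hq, sub_self]
      have hwy : w ∈ Ideal.span {y} := by
        have hcomp' : (Polynomial.aeval (MvPolynomial.X i : (MvPolynomial (Fin 2) k))).comp φ =
            MvPolynomial.aeval (fun l => if l = i then MvPolynomial.X i else 0) := by
          refine MvPolynomial.algHom_ext fun l => ?_
          by_cases hl : l = i
          · simp [hl, φ]
          · simp [hl, φ]
        have h := sub_aeval_mem (Ideal.span {y}) (fun l => if l = i then MvPolynomial.X i else 0)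
          (fun l => by
            by_cases hl : l = i
            · simp [hl]
            · have : l = j := by omega
              simp [hl, this, hy, Ne.symm hij, Ideal.mem_span_singleton_self]) w
        rw [← hcomp', AlgHom.comp_apply, hw0, map_zero, sub_zero] at h
        exact h
      obtain ⟨h, hh⟩ := Ideal.mem_span_singleton.1 hwy
      have hh𝔟 : h ∈ 𝔟 := by
        rw [h𝔟mem, ← hh]
        exact sub_mem ha (Ideal.mul_mem_right _ _ hf𝔞)
      have : a = h * y + f * Polynomial.aeval (MvPolynomial.X i) q := by linear_combination hh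
      rw [this]
      exact add_mem (Ideal.mem_sup_left (Ideal.mul_mem_mul hh𝔟 (Ideal.mem_span_singleton_self _)))
        (Ideal.mem_sup_right (Ideal.mul_mem_right _ _ (Ideal.mem_span_singleton_self _)))
  · rw [hfib]
    refine sup_le (le_trans Ideal.mul_le_left h𝔟m) ?_
    rw [Ideal.span_singleton_le_iff_mem, ← hsupp]
    exact Ideal.le_radical hf𝔞
  · obtain ⟨α, hα⟩ := IsAlgClosed.exists_root (F.map (Polynomial.evalRingHom c)) (by
      rw [hFm.degree_map, Polynomial.degree_eq_natDegree hFm.ne_zero, hFd]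
      exact_mod_cast (by omega : r ≠ 0))
    set p : Fin 2 → k := fun l => if l = i then α else c with hp
    refine ⟨p, fun h0 => hc ?_, ?_⟩
    · simpa [hp, Ne.symm hij] using congrFun h0 j
    · rw [hfib]
      set M := Ideal.span (Set.range (fun l : Fin 2 => MvPolynomial.X l - MvPolynomial.C (p l)))
      have hgen : ∀ l, (MvPolynomial.X l - MvPolynomial.C (p l) : (MvPolynomial (Fin 2) k)) ∈ M :=
        fun l => Ideal.subset_span ⟨l, rfl⟩
      refine sup_le (le_trans Ideal.mul_le_right ?_) ?_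
      · rw [Ideal.span_singleton_le_iff_mem]
        simpa [hp, hy, Ne.symm hij] using hgen j
      · rw [Ideal.span_singleton_le_iff_mem]
        have h := sub_aeval_mem M (fun l => MvPolynomial.C (p l)) hgen f
        have h0 : MvPolynomial.aeval (fun l => MvPolynomial.C (p l) : Fin 2 → (MvPolynomial (Fin 2) k)) f = 0 := by
          set g : (MvPolynomial (Fin 2) k) →ₐ[k] (MvPolynomial (Fin 2) k) := MvPolynomial.aeval (fun l => MvPolynomial.C (p l))
          have hcomp : (g : (MvPolynomial (Fin 2) k) →+* (MvPolynomial (Fin 2) k)).comp Θ = MvPolynomial.C.comp ((Polynomial.evalRingHom α).comp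
              (Polynomial.mapRingHom (Polynomial.evalRingHom c))) := by
            refine Polynomial.ringHom_ext (fun q => ?_) (by simp [hΘ, g, hp])
            have h1 := algHom_aeval_eq g y c
              (by simp [g, hp, hy, Ne.symm hij, MvPolynomial.algebraMap_eq]) q
            simp only [hΘ, RingHom.comp_apply, Polynomial.coe_eval₂RingHom, Polynomial.eval₂_C,
              Polynomial.coe_mapRingHom, Polynomial.map_C, Polynomial.coe_evalRingHom,
              Polynomial.eval_C]
            exact h1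
          have := DFunLike.congr_fun hcomp F
          simp only [RingHom.comp_apply, RingHom.coe_coe, Polynomial.coe_mapRingHom,
            Polynomial.coe_evalRingHom] at this
          rw [hf, this, hα.eq_zero, map_zero]
        rwa [h0, sub_zero] at h

end Groth.Agent.PullApartLib
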